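import Mathlib
import Cfsg.Prelude.Def_Classical

/-!
The representation of `S_N` on even-weight vectors modulo the all-one vector over `ZMod 2`,
in coordinates.
-/

set_option autoImplicit false
set_option linter.unusedSectionVars false

namespace Cfsg.Agent.Lib.EvenWeight

/-- The dot product. -/
abbrev dot {N : ℕ} (v w : Fin N → ZMod 2) : ZMod 2 := ∑ i, v i * w i

/-- Even weight. -/
abbrev IsEvenWeight {N : ℕ} (w : Fin N → ZMod 2) : Prop := ∑ i, w i = 0

variable {κ : Type} [Fintype κ] [DecidableEq κ] {N : ℕ}

/-- Coordinates for the even-weight vectors modulo invariant ones: a basis `b` and its dual `d`. -/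
structure Coords (κ : Type) [Fintype κ] [DecidableEq κ] (N : ℕ) where
  b : κ → Fin N → ZMod 2
  d : κ → Fin N → ZMod 2
  b_even : ∀ k, IsEvenWeight (b k)
  dual : ∀ k l, dot (d k) (b l) = if k = l then 1 else 0
  resid : ∀ w, IsEvenWeight w →
    (∑ k, dot (d k) w • b k = w) ∨ ((∑ k, dot (d k) w • b k = w + 1) ∧ ∀ k, dot (d k) 1 = 0)

variable (C : Coords κ N)

/-- The vector with given coordinates. -/
def Coords.vec (u : κ → ZMod 2) : Fin N → ZMod 2 := ∑ k, u k • C.b k

/-- The coordinates of a vector. -/
def Coords.coord (w : Fin N → ZMod 2) : κ → ZMod 2 := fun k => dot (C.d k) w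

theorem dot_comm (v w : Fin N → ZMod 2) : dot v w = dot w v :=
  Finset.sum_congr rfl fun i _ => mul_comm _ _

theorem dot_sum_smul {τ : Type} [Fintype τ] (v : Fin N → ZMod 2) (u : τ → ZMod 2)
    (g : τ → Fin N → ZMod 2) : dot v (∑ k, u k • g k) = ∑ k, u k * dot v (g k) := by
  simp only [dot, Finset.sum_apply, Pi.smul_apply, smul_eq_mul, Finset.mul_sum]
  rw [Finset.sum_comm]
  exact Finset.sum_congr rfl fun k _ => Finset.sum_congr rfl fun i _ => by ring

theorem Coords.coord_vec (u : κ → ZMod 2) : C.coord (C.vec u) = u := by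
  funext k
  show dot (C.d k) (∑ l, u l • C.b l) = u k
  rw [dot_sum_smul, Finset.sum_eq_single k (fun l _ hl => by rw [C.dual, if_neg hl.symm, mul_zero])
    (by simp), C.dual, if_pos rfl, mul_one]

theorem Coords.vec_even (u : κ → ZMod 2) : IsEvenWeight (C.vec u) := by
  show ∑ i, (∑ k, u k • C.b k) i = 0
  simp only [Finset.sum_apply, Pi.smul_apply, smul_eq_mul]
  rw [Finset.sum_comm]
  exact Finset.sum_eq_zero fun k _ => by rw [← Finset.mul_sum, C.b_even k, mul_zero]

/-- The permuted vector. -/
abbrev permVec (π : Equiv.Perm (Fin N)) (w : Fin N → ZMod 2) : Fin N → ZMod 2 := fun i => w (π⁻¹ i)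

theorem permVec_even (π : Equiv.Perm (Fin N)) {w : Fin N → ZMod 2} (hw : IsEvenWeight w) :
    IsEvenWeight (permVec π w) := (Equiv.sum_comp π⁻¹ w).trans hw

/-- The action of a permutation in coordinates. -/
def Coords.act (π : Equiv.Perm (Fin N)) : (κ → ZMod 2) →ₗ[ZMod 2] (κ → ZMod 2) where
  toFun u := C.coord (permVec π (C.vec u))
  map_add' u u' := by
    funext k
    simp only [Coords.coord, Coords.vec, dot, permVec, Finset.sum_apply, Pi.smul_apply, Pi.add_apply,
      smul_eq_mul, ← Finset.sum_add_distrib, ← mul_add, ← add_mul]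
  map_smul' c u := by
    funext k
    simp only [Coords.coord, Coords.vec, dot, permVec, Finset.sum_apply, Pi.smul_apply,
      smul_eq_mul, RingHom.id_apply, Finset.mul_sum]
    exact Finset.sum_congr rfl fun i _ => Finset.sum_congr rfl fun j _ => by ring

theorem Coords.act_apply (π : Equiv.Perm (Fin N)) (u : κ → ZMod 2) :
    C.act π u = C.coord (permVec π (C.vec u)) := rfl

/-- The coordinates determine an even vector up to the all-one vector. -/
theorem Coords.vec_coord {w : Fin N → ZMod 2} (hw : IsEvenWeight w) :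
    C.vec (C.coord w) = w ∨ (C.vec (C.coord w) = w + 1 ∧ ∀ k, dot (C.d k) 1 = 0) :=
  C.resid w hw

theorem Coords.coord_perm_vec_coord (π : Equiv.Perm (Fin N)) {w : Fin N → ZMod 2} (hw : IsEvenWeight w) :
    C.coord (permVec π (C.vec (C.coord w))) = C.coord (permVec π w) := by
  rcases C.vec_coord hw with h | ⟨h, h1⟩
  · rw [h]
  · rw [h]
    funext k
    show dot (C.d k) (permVec π (w + 1)) = dot (C.d k) (permVec π w)
    simp only [dot, permVec, Pi.add_apply, Pi.one_apply, mul_add, Finset.sum_add_distrib]
    have := h1 k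
    simp only [dot, Pi.one_apply] at this
    rw [this, add_zero]

theorem Coords.act_one (u : κ → ZMod 2) : C.act 1 u = u := C.coord_vec u

theorem Coords.act_mul (π ρ : Equiv.Perm (Fin N)) (u : κ → ZMod 2) :
    C.act (π * ρ) u = C.act π (C.act ρ u) := by
  rw [C.act_apply π, C.act_apply ρ, C.coord_perm_vec_coord π (permVec_even ρ (C.vec_even u))]
  rfl

theorem Coords.act_injective_aux (hN : 5 ≤ N) (π : Equiv.Perm (Fin N))
    (h : ∀ u, C.act π u = u) : π = 1 := by
  -- every even vector is fixed up to the all-one vector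
  have hfix : ∀ w, IsEvenWeight w → permVec π w = w ∨ permVec π w = w + 1 := by
    intro w hw
    have h1 := h (C.coord w)
    rw [C.act_apply, C.coord_perm_vec_coord π hw] at h1
    have h2 := congrArg C.vec h1
    rcases C.vec_coord hw with e | ⟨e, -⟩ <;> rcases C.vec_coord (permVec_even π hw) with e' | ⟨e', -⟩ <;>
      rw [e, e'] at h2
    · exact Or.inl h2
    · refine Or.inr (funext fun i => ?_)
      have := congrFun h2 i
      simp only [Pi.add_apply, Pi.one_apply] at this ⊢
      rw [← this, add_assoc, CharTwo.add_self_eq_zero, add_zero]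
    · exact Or.inr h2
    · exact Or.inl (add_right_cancel h2)
  let pair : Fin N → Fin N → Fin N → ZMod 2 := fun i j k => if k = i ∨ k = j then 1 else 0
  have hsetwise : ∀ i j, i ≠ j → π i = i ∨ π i = j := by
    intro i j hij
    have hev : IsEvenWeight (pair i j) := by
      show ∑ k, (if k = i ∨ k = j then (1 : ZMod 2) else 0) = 0
      rw [← Finset.sum_filter]
      have : (Finset.univ.filter fun k => k = i ∨ k = j) = {i, j} := by ext k; simp
      rw [this, Finset.sum_pair hij]
      decide
    rcases hfix _ hev with e | e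
    · have := congrFun e (π i)
      simp only [pair, permVec, Equiv.Perm.coe_inv, Equiv.symm_apply_apply, true_or, if_true] at this
      by_contra hc
      rw [if_neg hc] at this
      exact one_ne_zero this
    · exfalso
      -- two further points outside the pair and its image
      obtain ⟨k, hk⟩ : ∃ k, k ∉ ({i, j, π i, π j} : Finset (Fin N)) := by
        by_contra hall
        push Not at hall
        have := (Finset.eq_univ_iff_forall.2 hall) ▸ Finset.card_le_four (a := i) (b := j) (c := π i) (d := π j)
        simp at this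
        omega
      simp only [Finset.mem_insert, Finset.mem_singleton, not_or] at hk
      have := congrFun e k
      simp only [pair, permVec, Pi.add_apply, Pi.one_apply] at this
      rw [if_neg, if_neg (not_or.2 ⟨hk.1, hk.2.1⟩), zero_add] at this
      · exact zero_ne_one this
      · rintro (h' | h') <;> [exact hk.2.2.1 (by rw [← h']; simp); exact hk.2.2.2 (by rw [← h']; simp)]
  refine Equiv.ext fun i => ?_
  show π i = i
  obtain ⟨j, hj⟩ : ∃ j, j ∉ ({i} : Finset (Fin N)) := by
    by_contra hall
    push Not at hall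
    have := Finset.card_eq_one.2 ⟨i, (Finset.eq_univ_iff_forall.2 hall).symm⟩
    simp at this
    omega
  obtain ⟨k, hk⟩ : ∃ k, k ∉ ({i, j} : Finset (Fin N)) := by
    by_contra hall
    push Not at hall
    have := (Finset.eq_univ_iff_forall.2 hall) ▸ Finset.card_le_two (a := i) (b := j)
    simp at this
    omega
  simp only [Finset.mem_insert, Finset.mem_singleton, not_or] at hj hk
  rcases hsetwise i j (Ne.symm hj) with h' | h'
  · exact h'
  · rcases hsetwise i k (Ne.symm hk.1) with h'' | h''
    · exact h''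
    · exact absurd (h''.symm.trans h') hk.2

attribute [local irreducible] Coords.act in
/-- The action as a homomorphism to linear automorphisms. -/
def Coords.hom : Equiv.Perm (Fin N) →* ((κ → ZMod 2) ≃ₗ[ZMod 2] (κ → ZMod 2)) where
  toFun π :=
    { C.act π with
      invFun := fun u => C.act π⁻¹ u
      left_inv := fun u => (C.act_mul π⁻¹ π u).symm.trans
        ((congrArg (fun ρ => C.act ρ u) (inv_mul_cancel π)).trans (C.act_one u))
      right_inv := fun u => (C.act_mul π π⁻¹ u).symm.trans
        ((congrArg (fun ρ => C.act ρ u) (mul_inv_cancel π)).trans (C.act_one u)) }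
  map_one' := LinearEquiv.ext fun u => C.act_one u
  map_mul' π ρ := LinearEquiv.ext fun u => C.act_mul π ρ u

theorem Coords.hom_apply (π : Equiv.Perm (Fin N)) (u : κ → ZMod 2) :
    C.hom π u = C.coord (permVec π (C.vec u)) := rfl

theorem Coords.hom_injective (hN : 5 ≤ N) : Function.Injective C.hom := by
  rw [injective_iff_map_eq_one]
  exact fun π h => C.act_injective_aux hN π fun u => LinearEquiv.congr_fun h u

/-- An isometry-valued homomorphism from an invariant function `Q`. -/
noncomputable def Coords.isoHom (Q : (κ → ZMod 2) → ZMod 2) (hQ : ∀ π u, Q (C.hom π u) = Q u) :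
    Equiv.Perm (Fin N) →* ↥(Cfsg.isometryGroup (ZMod 2) Q) where
  toFun π := ⟨(Matrix.GeneralLinearGroup.toLin.trans
      (LinearMap.GeneralLinearGroup.generalLinearEquiv (ZMod 2) (κ → ZMod 2))).symm (C.hom π), fun u _ => by
    have h : ∀ (M : Matrix.GeneralLinearGroup κ (ZMod 2)),
        (M : Matrix κ κ (ZMod 2)).mulVec u = (Matrix.GeneralLinearGroup.toLin.trans
          (LinearMap.GeneralLinearGroup.generalLinearEquiv (ZMod 2) (κ → ZMod 2))) M u := fun M => rfl
    show Q (((Matrix.GeneralLinearGroup.toLin.trans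
      (LinearMap.GeneralLinearGroup.generalLinearEquiv (ZMod 2) (κ → ZMod 2))).symm (C.hom π) :
        Matrix κ κ (ZMod 2)).mulVec u) = Q u
    rw [h, MulEquiv.apply_symm_apply, hQ]⟩
  map_one' := Subtype.ext (by simp)
  map_mul' π ρ := Subtype.ext (by simp)

theorem Coords.isoHom_injective (hN : 5 ≤ N) (Q : (κ → ZMod 2) → ZMod 2)
    (hQ : ∀ π u, Q (C.hom π u) = Q u) : Function.Injective (C.isoHom Q hQ) := fun π ρ h =>
  C.hom_injective hN ((MulEquiv.injective _) (congrArg Subtype.val h))

/-- Half the weight, mod 2. -/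
def halfWeight (w : Fin N → ZMod 2) : ZMod 2 :=
  (((Finset.univ.filter fun i => w i ≠ 0).card / 2 : ℕ) : ZMod 2)

theorem halfWeight_permVec (π : Equiv.Perm (Fin N)) (w : Fin N → ZMod 2) :
    halfWeight (permVec π w) = halfWeight w := by
  unfold halfWeight permVec
  rw [Finset.card_equiv π⁻¹ (t := Finset.univ.filter fun i => w i ≠ 0)]
  simp

/-- The invariant form attached to `halfWeight`. -/
theorem Coords.halfWeight_invariant (Q : (κ → ZMod 2) → ZMod 2) (hQ : ∀ u, Q u = halfWeight (C.vec u))
    (hres : ∀ w, IsEvenWeight w → halfWeight (C.vec (C.coord w)) = halfWeight w)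
    (π : Equiv.Perm (Fin N)) (u : κ → ZMod 2) : Q (C.hom π u) = Q u := by
  rw [C.hom_apply, hQ, hQ, hres _ (permVec_even π (C.vec_even u)), halfWeight_permVec]

/-- `S_N` is the whole isometry group when the orders agree. -/
theorem Coords.nonempty_equiv (hN : 5 ≤ N) (Q : (κ → ZMod 2) → ZMod 2) (hQ : ∀ u, Q u = halfWeight (C.vec u))
    (hres : ∀ w, IsEvenWeight w → halfWeight (C.vec (C.coord w)) = halfWeight w)
    (hcard : Nat.card (Cfsg.isometryGroup (ZMod 2) Q) = N.factorial) :
    Nonempty (↥(Cfsg.isometryGroup (ZMod 2) Q) ≃* Equiv.Perm (Fin N)) :=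
  ⟨(MulEquiv.ofBijective (C.isoHom Q (C.halfWeight_invariant Q hQ hres))
    ((Nat.bijective_iff_injective_and_card _).2 ⟨C.isoHom_injective hN _ _, by
      rw [hcard, Nat.card_perm, Nat.card_fin]⟩)).symm⟩

end Cfsg.Agent.Lib.EvenWeight
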