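import Mathlib
import Cfsg.Agent.Lib.EvenWeight.Model
import Cfsg.Agent.Lib.Forms.Symplectic

/-!
A symplectic basis of the even-weight vectors of length `2m + 2` modulo the all-one vector.
-/

set_option autoImplicit false

namespace Cfsg.Agent.Lib.EvenWeight

variable {m : ℕ}

/-- Two consecutive points. -/
def adjVec (N a : ℕ) : Fin N → ZMod 2 := fun j => if (j : ℕ) = a ∨ (j : ℕ) = a + 1 then 1 else 0

/-- The interval from `2 i + 1` to `2 m`. -/
def intVec (m i : ℕ) : Fin (2 * (m + 1)) → ZMod 2 :=
  fun j => if 2 * i + 1 ≤ (j : ℕ) ∧ (j : ℕ) ≤ 2 * m then 1 else 0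

theorem dot_add_left {N : ℕ} (v v' w : Fin N → ZMod 2) : dot (v + v') w = dot v w + dot v' w := by
  simp only [dot, Pi.add_apply, add_mul, Finset.sum_add_distrib]

theorem dot_adjVec {N a : ℕ} (h : a + 1 < N) (z : Fin N → ZMod 2) :
    dot (adjVec N a) z = z ⟨a, by omega⟩ + z ⟨a + 1, h⟩ := by
  have e : adjVec N a = Pi.single ⟨a, by omega⟩ 1 + Pi.single ⟨a + 1, h⟩ 1 := by
    funext j
    simp only [adjVec, Pi.add_apply, Pi.single_apply, Fin.ext_iff]
    split_ifs <;> simp_all
  simp [e, dot, add_mul, Finset.sum_add_distrib, Pi.single_apply]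

theorem intVec_succ {i : ℕ} (hi : i < m) :
    intVec m i = intVec m (i + 1) + adjVec (2 * (m + 1)) (2 * i + 1) := by
  funext j
  simp only [intVec, adjVec, Pi.add_apply]
  split_ifs <;> first | omega | simp

theorem intVec_self : intVec m m = 0 := by
  funext j
  simp only [intVec, Pi.zero_apply]
  rw [if_neg]
  omega

theorem dot_intVec_one {i : ℕ} (hi : i ≤ m) : dot (intVec m i) 1 = 0 := by
  refine Nat.decreasingInduction (motive := fun k _ => dot (intVec m k) 1 = 0)
    (fun k hk ih => ?_) ?_ hi
  · rw [intVec_succ hk, dot_add_left, ih, dot_adjVec (by omega), zero_add]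
    exact CharTwo.add_self_eq_zero 1
  · simp [intVec_self, dot]

theorem dot_adjVec_one {N a : ℕ} (h : a + 1 < N) : dot (adjVec N a) 1 = 0 := by
  rw [dot_adjVec h]
  exact CharTwo.add_self_eq_zero 1

/-- The basis. -/
def sympBasis (m : ℕ) : Fin m ⊕ Fin m → Fin (2 * (m + 1)) → ZMod 2 :=
  Sum.elim (fun i => adjVec _ (2 * (i : ℕ))) (fun i => intVec m i)

theorem dot_sympBasis_one (k : Fin m ⊕ Fin m) : dot (sympBasis m k) 1 = 0 := by
  rcases k with i | i
  · exact dot_adjVec_one (by omega)
  · exact dot_intVec_one (by omega)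

theorem dot_one_right {N : ℕ} (v : Fin N → ZMod 2) : dot v 1 = ∑ i, v i := by simp [dot]

theorem dot_intVec_intVec {i k : ℕ} (h : i ≤ k) : dot (intVec m i) (intVec m k) = ∑ j, intVec m k j := by
  refine Finset.sum_congr rfl fun j _ => ?_
  simp only [intVec]
  split_ifs <;> first | omega | simp

theorem sympBasis_pairing (k l : Fin m ⊕ Fin m) :
    dot (sympBasis m k.swap) (sympBasis m l) = if k = l then 1 else 0 := by
  rcases k with i | i <;> rcases l with j | j <;>
    simp only [Sum.swap_inl, Sum.swap_inr, sympBasis, Sum.elim_inl, Sum.elim_inr, Sum.inl.injEq,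
      Sum.inr.injEq, reduceCtorEq, if_false]
  · rw [dot_comm, dot_adjVec (by omega)]
    simp only [intVec]
    split_ifs <;> first | decide | (rename_i h; subst h; omega) | (exfalso; omega)
  · rcases le_total (i : ℕ) j with h | h
    · rw [dot_intVec_intVec h, ← dot_one_right, dot_intVec_one (by omega)]
    · rw [dot_comm, dot_intVec_intVec h, ← dot_one_right, dot_intVec_one (by omega)]
  · rw [dot_adjVec (by omega)]
    simp only [adjVec]
    split_ifs <;> first | decide | omega
  · rw [dot_adjVec (by omega)]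
    simp only [intVec]
    split_ifs <;> first | decide | (rename_i h; subst h; omega) | (exfalso; omega)

/-- An even vector orthogonal to the basis is constant. -/
theorem eq_zero_or_one_of_dot_sympBasis (z : Fin (2 * (m + 1)) → ZMod 2) (hz : IsEvenWeight z)
    (h : ∀ k, dot (sympBasis m k) z = 0) : z = 0 ∨ z = 1 := by
  let f : ℕ → ZMod 2 := fun a => if ha : a < 2 * (m + 1) then z ⟨a, ha⟩ else 0
  have hint : ∀ i, i ≤ m → dot (intVec m i) z = 0 := by
    intro i hi
    rcases hi.lt_or_eq with hi | rfl
    · exact h (.inr ⟨i, hi⟩)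
    · simp [intVec_self, dot]
  have hstep : ∀ a, a < 2 * m → f a = f (a + 1) := by
    intro a ha
    have hA : dot (adjVec (2 * (m + 1)) a) z = 0 := by
      rcases Nat.even_or_odd' a with ⟨i, rfl | rfl⟩
      · exact h (.inl ⟨i, by omega⟩)
      · have h1 := hint i (by omega)
        rwa [intVec_succ (by omega), dot_add_left, hint (i + 1) (by omega), zero_add] at h1
    rw [dot_adjVec (by omega)] at hA
    simp only [f, dif_pos (show a < 2 * (m + 1) by omega), dif_pos (show a + 1 < 2 * (m + 1) by omega)]
    exact CharTwo.add_eq_zero.1 hA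
  have hc : ∀ a, a ≤ 2 * m → f a = f 0 := by
    intro a
    induction a with
    | zero => exact fun _ => rfl
    | succ a ih => exact fun ha => (hstep a (by omega)).symm.trans (ih (by omega))
  have hs : ∑ j : Fin (2 * m + 1 + 1), f j = 0 := by
    refine (Finset.sum_congr rfl fun j _ => ?_).trans hz
    exact dif_pos j.2
  rw [Fin.sum_univ_castSucc] at hs
  simp only [Fin.val_castSucc] at hs
  rw [Finset.sum_congr rfl
    (fun (j : Fin (2 * m + 1)) _ => hc j (by omega)), Finset.sum_const, Finset.card_univ,
    Fintype.card_fin, nsmul_eq_mul, Fin.val_last] at hs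
  have h2 : ((2 * m + 1 : ℕ) : ZMod 2) = 1 := by
    push_cast
    rw [show (2 : ZMod 2) = 0 from rfl, zero_mul, zero_add]
  rw [h2, one_mul, CharTwo.add_eq_zero] at hs
  have hall : ∀ j, z j = f 0 := by
    intro j
    have e : z j = f j := by simp only [f, dif_pos j.2]
    rw [e]
    rcases Nat.lt_or_ge (j : ℕ) (2 * m + 1) with hj | hj
    · exact hc j (by omega)
    · rw [show (j : ℕ) = 2 * m + 1 by omega]
      exact hs.symm
  have h01 : ∀ c : ZMod 2, c = 0 ∨ c = 1 := by decide
  rcases h01 (f 0) with e | e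
  · exact Or.inl (funext fun j => (hall j).trans e)
  · exact Or.inr (funext fun j => (hall j).trans e)

/-- The symplectic coordinates. -/
def sympCoords (m : ℕ) : Coords (Fin m ⊕ Fin m) (2 * (m + 1)) where
  b := sympBasis m
  d k := sympBasis m k.swap
  b_even k := (dot_one_right _).symm.trans (dot_sympBasis_one k)
  dual := sympBasis_pairing
  resid w hw := by
    set v := ∑ k : Fin m ⊕ Fin m, dot (sympBasis m k.swap) w • sympBasis m k with hv
    have h1 : ∀ k : Fin m ⊕ Fin m, dot (sympBasis m k.swap) v = dot (sympBasis m k.swap) w := by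
      intro k
      rw [hv, dot_sum_smul, Finset.sum_eq_single k
        (fun l _ hl => by rw [sympBasis_pairing, if_neg hl.symm, mul_zero]) (by simp),
        sympBasis_pairing, if_pos rfl, mul_one]
    have hz : ∀ k, dot (sympBasis m k) (v + w) = 0 := by
      intro k
      rw [dot_comm, dot_add_left, dot_comm v, dot_comm w]
      have := h1 k.swap
      rw [Sum.swap_swap] at this
      rw [this, CharTwo.add_self_eq_zero]
    have he : IsEvenWeight (v + w) := by
      show ∑ i, (v i + w i) = 0
      rw [Finset.sum_add_distrib, hw, add_zero, ← dot_one_right, hv, dot_comm, dot_sum_smul]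
      exact Finset.sum_eq_zero fun k _ => by rw [dot_comm 1, dot_sympBasis_one, mul_zero]
    rcases eq_zero_or_one_of_dot_sympBasis _ he hz with e | e
    · exact Or.inl (funext fun i => CharTwo.add_eq_zero.1 (congrFun e i))
    · refine Or.inr ⟨funext fun i => ?_, fun k => dot_sympBasis_one _⟩
      have := congrFun e i
      simp only [Pi.add_apply, Pi.one_apply] at this ⊢
      rw [← this, add_left_comm, CharTwo.add_self_eq_zero, add_zero]

/-- The dot product computes the symplectic form. -/
theorem sympForm_eq_dot_vec (u v : Fin m ⊕ Fin m → ZMod 2) :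
    Cfsg.sympForm m (ZMod 2) u v = dot ((sympCoords m).vec u) ((sympCoords m).vec v) := by
  rw [dot_comm, Coords.vec, Coords.vec, dot_sum_smul]
  have hc : ∀ k, dot (∑ l, v l • (sympCoords m).b l) ((sympCoords m).b k) = v k.swap := by
    intro k
    have := congrFun ((sympCoords m).coord_vec v) k.swap
    rw [dot_comm]
    simpa [Coords.coord, Coords.vec, sympCoords] using this
  rw [Finset.sum_congr rfl fun k _ => congrArg (u k * ·) (hc k)]
  simp only [Cfsg.sympForm, Matrix.J, dotProduct, Matrix.mulVec, Fintype.sum_sum_type]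
  simp [Matrix.one_apply, ZMod.neg_eq_self_mod_two]

theorem dot_permVec {N : ℕ} (π : Equiv.Perm (Fin N)) (w w' : Fin N → ZMod 2) :
    dot (permVec π w) (permVec π w') = dot w w' :=
  Equiv.sum_comp π⁻¹ fun i => w i * w' i

theorem dot_vec_coord {w w' : Fin (2 * (m + 1)) → ZMod 2} (hw : IsEvenWeight w) (hw' : IsEvenWeight w') :
    dot ((sympCoords m).vec ((sympCoords m).coord w)) w' = dot w w' := by
  rcases (sympCoords m).vec_coord hw with e | ⟨e, -⟩
  · rw [e]
  · rw [e, dot_add_left, dot_comm 1, dot_one_right, hw', add_zero]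

theorem sympForm_hom (π : Equiv.Perm (Fin (2 * (m + 1)))) (u v : Fin m ⊕ Fin m → ZMod 2) :
    Cfsg.sympForm m (ZMod 2) ((sympCoords m).hom π u) ((sympCoords m).hom π v) =
      Cfsg.sympForm m (ZMod 2) u v := by
  have hu := permVec_even π ((sympCoords m).vec_even u)
  have hv := permVec_even π ((sympCoords m).vec_even v)
  rw [sympForm_eq_dot_vec, sympForm_eq_dot_vec, Coords.hom_apply, Coords.hom_apply,
    dot_vec_coord hu ((sympCoords m).vec_even _), dot_comm, dot_vec_coord hv hu, dot_comm, dot_permVec]

/-- `S_{2m+2}` in the symplectic group. -/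
noncomputable def sympHom (m : ℕ) :
    Equiv.Perm (Fin (2 * (m + 1))) →* Matrix.symplecticGroup (Fin m) (ZMod 2) where
  toFun π := Forms.spMk ((sympCoords m).hom π) (sympForm_hom π)
  map_one' := Subtype.ext (Matrix.ext_of_mulVec_single fun i => by
    rw [Forms.spMk_mulVec, map_one]; exact (Matrix.one_mulVec _).symm)
  map_mul' π ρ := Subtype.ext (Matrix.ext_of_mulVec_single fun i => by
    rw [Submonoid.coe_mul, ← Matrix.mulVec_mulVec, Forms.spMk_mulVec, Forms.spMk_mulVec,
      Forms.spMk_mulVec, map_mul]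
    rfl)

theorem sympHom_injective (hm : 2 ≤ m) : Function.Injective (sympHom m) := fun π ρ h =>
  (sympCoords m).hom_injective (show 5 ≤ 2 * (m + 1) by omega) (LinearEquiv.ext fun u => by
    have := congrArg (fun g : Matrix.symplecticGroup (Fin m) (ZMod 2) =>
      (g : Matrix (Fin m ⊕ Fin m) (Fin m ⊕ Fin m) (ZMod 2)).mulVec u) h
    simpa [sympHom] using this)

end Cfsg.Agent.Lib.EvenWeight
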