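import Mathlib
import Cfsg.Prelude.Def_Classical

/-!
Transport of isometry groups along an isomorphism of fields.
-/

set_option autoImplicit false

namespace Cfsg.Agent.Lib.EvenWeight

variable {F K : Type*} [Field F] [Field K] {ι : Type} [Fintype ι] [DecidableEq ι]

/-- `GL` along a field isomorphism. -/
noncomputable def glMap (φ : F ≃+* K) : Matrix.GeneralLinearGroup ι F ≃* Matrix.GeneralLinearGroup ι K :=
  Units.mapEquiv (φ.mapMatrix : Matrix ι ι F ≃+* Matrix ι ι K).toMulEquiv

/-- Isometry groups along a field isomorphism. -/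
noncomputable def isometryGroupMap (φ : F ≃+* K) (Q : (ι → F) → F) (Q' : (ι → K) → K)
    (h : ∀ v, φ (Q v) = Q' (fun i => φ (v i))) :
    ↥(Cfsg.isometryGroup F Q) ≃* ↥(Cfsg.isometryGroup K Q') :=
  (MulEquiv.subgroupMap (glMap φ) _).trans (MulEquiv.subgroupCongr (by
    have hv : ∀ (g : Matrix.GeneralLinearGroup ι F) (w : ι → F) (i : ι),
        ((glMap φ g : Matrix.GeneralLinearGroup ι K) : Matrix ι ι K).mulVec (fun j => φ (w j)) i =
          φ ((g : Matrix ι ι F).mulVec w i) := fun g w i =>
      (RingHom.map_mulVec φ.toRingHom (g : Matrix ι ι F) w i).symm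
    ext g
    rw [Subgroup.mem_map]
    constructor
    · rintro ⟨a, ha, rfl⟩ u _
      obtain ⟨w, rfl⟩ : ∃ w : ι → F, (fun j => φ (w j)) = u :=
        ⟨fun j => φ.symm (u j), funext fun j => φ.apply_symm_apply _⟩
      show Q' _ = Q' _
      rw [show ((Units.coeHom _) (((glMap φ : Matrix.GeneralLinearGroup ι F ≃* Matrix.GeneralLinearGroup ι K) : Matrix.GeneralLinearGroup ι F →* Matrix.GeneralLinearGroup ι K) a)).mulVec (fun j => φ (w j)) =
        fun i => φ ((a : Matrix ι ι F).mulVec w i) from funext (hv a w), ← h, ← h]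
      exact congrArg φ (ha w w)
    · intro hg
      obtain ⟨a, rfl⟩ := (glMap φ).surjective g
      refine ⟨a, fun w _ => φ.injective ?_, rfl⟩
      show φ (Q _) = φ (Q w)
      rw [h, h]
      have := hg (fun j => φ (w j)) (fun j => φ (w j))
      rwa [show ((Units.coeHom _) (glMap φ a)).mulVec (fun j => φ (w j)) =
        fun i => φ ((a : Matrix ι ι F).mulVec w i) from funext (hv a w)] at this))

/-- A field with two elements is `ZMod 2`. -/
theorem exists_equiv_zmod_two [Fintype F] (hF : Fintype.card F = 2) : Nonempty (F ≃+* ZMod 2) :=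
  ⟨(ZMod.ringEquivOfPrime F Nat.prime_two hF).symm⟩

end Cfsg.Agent.Lib.EvenWeight
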